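import Groth.Agent.Depth.Local
import Groth.Agent.RegLoc.Basic
import Mathlib.RingTheory.Ideal.MinimalPrime.Noetherian

/-!
# Cohen–Macaulay modules and rings

* `isCohenMacaulayModule_congr`, `isCohenMacaulayModule_quotSMulTop_iff`;
* `ringKrullDim_quotient_associatedPrime`: no embedded primes, equidimensional;
* `supportDim_eq_supportDim_quotient_add_idealDepth`;
* `isCohenMacaulayModule_localizedModule`, `depth_localizedModule_eq_idealDepth`;
* `isCohenMacaulayModule_iff_of_surjective` (change of rings along surjections);
* `isCohenMacaulayRing_of_isCohenMacaulayLocalRing`, `isCohenMacaulayLocalRing_of_isRegularLocalRing`.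
-/

universe u v w

open CategoryTheory RingTheory.Sequence
open scoped Pointwise

namespace Groth.Agent.Depth

theorem withBot_add_one_right_cancel {a b : WithBot ℕ∞} (h : a + 1 = b + 1) : a = b :=
  ENat.WithBot.add_one_cancel.mp h

section ChangeOfRings

variable {R : Type u} [CommRing R] {S : Type w} [CommRing S] [Algebra R S]
variable {N : Type v} [AddCommGroup N] [Module R N] [Module S N] [IsScalarTower R S N]

theorem idealDepth_map_of_surjective (hs : Function.Surjective (algebraMap R S)) (I : Ideal R) :
    LocCoh.idealDepth (I.map (algebraMap R S)) N = LocCoh.idealDepth I N := by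
  have htop : I.map (algebraMap R S) • (⊤ : Submodule S N) = ⊤ ↔ I • (⊤ : Submodule R N) = ⊤ := by
    rw [← (Submodule.restrictScalars_injective R S N).eq_iff, Ideal.smul_restrictScalars,
      Submodule.restrictScalars_top]
  by_cases h : I • (⊤ : Submodule R N) = ⊤
  · rw [idealDepth_eq_top_of_smul_top_eq_top h, idealDepth_eq_top_of_smul_top_eq_top (htop.mpr h)]
  · rw [idealDepth_eq_iSup h, idealDepth_eq_iSup (fun h' => h (htop.mp h'))]
    refine le_antisymm (iSup₂_le fun ss hss => ?_) (iSup₂_le fun rs hrs => ?_)
    · have : ∀ s ∈ ss, ∃ r ∈ I, algebraMap R S r = s := fun s hs' =>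
        (Ideal.mem_map_iff_of_surjective _ hs).mp (hss.2 s hs')
      choose! g hg hg' using this
      refine le_iSup₂_of_le (ss.map g) ⟨?_, by simpa using hg⟩ (by simp)
      rw [← isWeaklyRegular_map_algebraMap_iff S N, List.map_map,
        List.map_congr_left (g := id) (fun s hs' => by simpa using hg' s hs'), List.map_id]
      exact hss.1
    · exact le_iSup₂_of_le (rs.map (algebraMap R S))
        ⟨(isWeaklyRegular_map_algebraMap_iff S N rs).mpr hrs.1,
          by simpa using fun r hr => Ideal.mem_map_of_mem _ (hrs.2 r hr)⟩ (by simp)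

theorem supportDim_of_surjective [Module.Finite R N] [Module.Finite S N]
    (hs : Function.Surjective (algebraMap R S)) :
    Module.supportDim S N = Module.supportDim R N := by
  rw [Module.supportDim_eq_ringKrullDim_quotient_annihilator,
    Module.supportDim_eq_ringKrullDim_quotient_annihilator]
  have hann : Module.annihilator R N = (Module.annihilator S N).comap (algebraMap R S) := by
    ext r
    simp [Module.mem_annihilator]
  have e : (R ⧸ Module.annihilator R N) ≃+* (S ⧸ Module.annihilator S N) :=
    (Ideal.quotEquivOfEq (show Module.annihilator R N =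
      RingHom.ker ((Ideal.Quotient.mk (Module.annihilator S N)).comp (algebraMap R S)) by
        rw [hann, ← RingHom.comap_ker, Ideal.mk_ker])).trans
      (RingHom.quotientKerEquivOfSurjective (Ideal.Quotient.mk_surjective.comp hs))
  exact (ringKrullDim_eq_of_ringEquiv e).symm

theorem isCohenMacaulayModule_iff_of_surjective [IsLocalRing R] [IsLocalRing S] [Module.Finite R N]
    [Module.Finite S N] (hs : Function.Surjective (algebraMap R S)) :
    LocCoh.IsCohenMacaulayModule S N ↔ LocCoh.IsCohenMacaulayModule R N := by
  unfold LocCoh.IsCohenMacaulayModule LocCoh.depth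
  rw [supportDim_of_surjective (R := R) hs, ← IsLocalRing.map_maximalIdeal_of_surjective _ hs,
    idealDepth_map_of_surjective hs]

end ChangeOfRings

section Basic

variable {R : Type u} [CommRing R] [IsLocalRing R]

theorem isCohenMacaulayModule_congr {M : Type v} [AddCommGroup M] [Module R M] {N : Type v}
    [AddCommGroup N] [Module R N] (e : M ≃ₗ[R] N) :
    LocCoh.IsCohenMacaulayModule R M ↔ LocCoh.IsCohenMacaulayModule R N := by
  unfold LocCoh.IsCohenMacaulayModule LocCoh.depth
  rw [Module.supportDim_eq_of_equiv e, idealDepth_congr e]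

theorem nontrivial_of_isCohenMacaulayModule {M : Type v} [AddCommGroup M] [Module R M]
    (h : LocCoh.IsCohenMacaulayModule R M) : Nontrivial M := by
  rw [← Module.supportDim_ne_bot_iff_nontrivial R, h]
  exact WithBot.coe_ne_bot

variable [IsNoetherianRing R] {M : Type u} [AddCommGroup M] [Module R M] [Module.Finite R M]

theorem isCohenMacaulayModule_quotSMulTop_iff {x : R} (hx : x ∈ IsLocalRing.maximalIdeal R)
    (hreg : IsSMulRegular M x) :
    LocCoh.IsCohenMacaulayModule R (QuotSMulTop x M) ↔ LocCoh.IsCohenMacaulayModule R M := by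
  unfold LocCoh.IsCohenMacaulayModule
  rw [← Module.supportDim_quotSMulTop_succ_eq_supportDim hreg hx, depth_eq_idealDepth (M := M),
    ← idealDepth_quotSMulTop_add_one hx hreg]
  push_cast
  exact ⟨fun h => by rw [h]; rfl, fun h => withBot_add_one_right_cancel h⟩

/-- Every associated prime of a Cohen–Macaulay module has dimension `dim M`. -/
theorem ringKrullDim_quotient_associatedPrime (h : LocCoh.IsCohenMacaulayModule R M) {p : Ideal R}
    (hp : p ∈ associatedPrimes R M) : ringKrullDim (R ⧸ p) = Module.supportDim R M := by
  refine le_antisymm ?_ (h ▸ depth_le_ringKrullDim_quotient hp)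
  rw [Module.supportDim_eq_ringKrullDim_quotient_annihilator]
  exact ringKrullDim_le_of_surjective (Ideal.Quotient.factor (annihilator_le_associatedPrime hp))
    (Ideal.Quotient.factor_surjective _)

omit [IsLocalRing R] [IsNoetherianRing R] [Module.Finite R M] in
theorem le_ringKrullDim_quotient_of_le {J K : Ideal R} (h : J ≤ K) :
    ringKrullDim (R ⧸ K) ≤ ringKrullDim (R ⧸ J) :=
  ringKrullDim_le_of_surjective (Ideal.Quotient.factor h) (Ideal.Quotient.factor_surjective h)

/-- `dim M = dim M/IM + depth_I M` for a Cohen–Macaulay module. -/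
theorem supportDim_eq_supportDim_quotient_add_idealDepth {I : Ideal R}
    (hI : I ≤ IsLocalRing.maximalIdeal R) (h : LocCoh.IsCohenMacaulayModule R M) :
    Module.supportDim R M = Module.supportDim R (M ⧸ (I • (⊤ : Submodule R M))) +
      ((LocCoh.idealDepth I M : ℕ∞) : WithBot ℕ∞) := by
  have := nontrivial_of_isCohenMacaulayModule h
  obtain ⟨e, he⟩ := ENat.ne_top_iff_exists.mp
    (idealDepth_lt_top (smul_top_ne_top_of_le_maximalIdeal (M := M) hI)).ne
  rw [← he]
  induction e generalizing M with
  | zero =>
    obtain ⟨p, hp, hIp⟩ := idealDepth_eq_zero_iff.mp (by simpa using he.symm)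
    have hprime := isPrime_of_mem_associatedPrimes hp
    simp only [Nat.cast_zero, WithBot.coe_zero, add_zero]
    refine le_antisymm ?_ (Module.supportDim_le_of_surjective _ (Submodule.mkQ_surjective _))
    rw [← ringKrullDim_quotient_associatedPrime h hp,
      Module.supportDim_eq_ringKrullDim_quotient_annihilator]
    refine le_ringKrullDim_quotient_of_le ?_
    have hmem : (⟨p, hprime⟩ : PrimeSpectrum R) ∈
        Module.support R (M ⧸ (I • (⊤ : Submodule R M))) := by
      rw [Module.support_quotient]
      refine ⟨?_, hIp⟩
      rw [Module.support_eq_zeroLocus]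
      exact annihilator_le_associatedPrime hp
    rw [Module.support_eq_zeroLocus] at hmem
    exact hmem
  | succ e ih =>
    obtain ⟨x, hx, hreg⟩ := exists_isSMulRegular_of_one_le_idealDepth (I := I) (M := M)
      (by rw [← he]; exact_mod_cast Nat.succ_pos e)
    have h' : (e : ℕ∞) = LocCoh.idealDepth I (QuotSMulTop x M) := by
      have := idealDepth_quotSMulTop_add_one hx hreg
      rw [← he] at this; push_cast at this
      exact (WithTop.add_right_cancel ENat.one_ne_top this).symm
    have hCM := (isCohenMacaulayModule_quotSMulTop_iff (hI hx) hreg).mpr h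
    have hih := ih hCM (nontrivial_of_isCohenMacaulayModule hCM) h'
    have hle : x • (⊤ : Submodule R M) ≤ I • ⊤ := by
      rw [← Submodule.ideal_span_singleton_smul]
      exact Submodule.smul_mono_left ((Ideal.span_singleton_le_iff_mem I).mpr hx)
    have e' : (QuotSMulTop x M ⧸ (I • (⊤ : Submodule R (QuotSMulTop x M)))) ≃ₗ[R]
        M ⧸ (I • (⊤ : Submodule R M)) :=
      (Submodule.quotEquivOfEq _ ((I • (⊤ : Submodule R M)).map (x • (⊤ : Submodule R M)).mkQ)
        (by rw [Submodule.map_smul'', Submodule.map_top, Submodule.range_mkQ])).trans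
        (Submodule.quotientQuotientEquivQuotient _ _ hle)
    rw [← Module.supportDim_quotSMulTop_succ_eq_supportDim hreg (hI hx), hih,
      Module.supportDim_eq_of_equiv e']
    push_cast
    rw [add_assoc]

omit [IsLocalRing R] [IsNoetherianRing R] in
theorem supportDim_localizedModule_eq_zero {p : Ideal R} [p.IsPrime]
    (hmin : p ∈ (Module.annihilator R M).minimalPrimes) :
    Module.supportDim (Localization.AtPrime p) (LocalizedModule p.primeCompl M) = 0 := by
  have hmem : (⟨p, ‹_›⟩ : PrimeSpectrum R) ∈ Module.support R M := by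
    rw [Module.support_eq_zeroLocus]; exact hmin.1.2
  have : Nontrivial (LocalizedModule p.primeCompl M) := hmem
  have hsub : Subsingleton (Module.support (Localization.AtPrime p) (LocalizedModule p.primeCompl M)) := by
    suffices ∀ P ∈ Module.support (Localization.AtPrime p) (LocalizedModule p.primeCompl M),
        P.asIdeal.comap (algebraMap R (Localization.AtPrime p)) = p by
      refine ⟨fun a b => Subtype.ext (PrimeSpectrum.ext ?_)⟩
      rw [← IsLocalization.map_under p.primeCompl (Localization.AtPrime p) a.1.asIdeal,
        ← IsLocalization.map_under p.primeCompl (Localization.AtPrime p) b.1.asIdeal]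
      simp only [Ideal.under, this _ a.2, this _ b.2]
    intro P hP
    have hle : P.asIdeal.comap (algebraMap R (Localization.AtPrime p)) ≤ p :=
      le_of_le_of_eq (Ideal.comap_mono (IsLocalRing.le_maximalIdeal P.isPrime.ne_top))
        (Localization.AtPrime.under_maximalIdeal (I := p))
    refine le_antisymm hle (hmin.2 ⟨inferInstance, fun r hr => ?_⟩ hle)
    obtain ⟨y, hy⟩ := Module.mem_support_iff'.mp hP
    by_contra hrP
    refine hy _ hrP ?_
    obtain ⟨⟨m, s⟩, rfl⟩ :=
      IsLocalizedModule.mk'_surjective p.primeCompl (LocalizedModule.mkLinearMap p.primeCompl M) y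
    simp only [Function.uncurry_apply_pair]
    rw [IsScalarTower.algebraMap_smul, ← IsLocalizedModule.mk'_smul, Module.mem_annihilator.mp hr m,
      IsLocalizedModule.mk'_zero]
  refine le_antisymm ?_ ?_
  · exact Order.krullDim_nonpos_of_subsingleton
  · have := Module.supportDim_ne_bot_of_nontrivial (Localization.AtPrime p) (LocalizedModule p.primeCompl M)
    generalize Module.supportDim (Localization.AtPrime p) (LocalizedModule p.primeCompl M) = d at this
    induction d with
    | bot => exact absurd rfl this
    | coe d => exact WithBot.coe_le_coe.mpr zero_le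

/-- Localizations of Cohen–Macaulay modules are Cohen–Macaulay, with depth `depth_p M`. -/
theorem isCohenMacaulayModule_localizedModule_and_depth (h : LocCoh.IsCohenMacaulayModule R M)
    (p : Ideal R) [p.IsPrime] (hp : Nontrivial (LocalizedModule p.primeCompl M)) :
    LocCoh.IsCohenMacaulayModule (Localization.AtPrime p) (LocalizedModule p.primeCompl M) ∧
      LocCoh.depth (Localization.AtPrime p) (LocalizedModule p.primeCompl M) = LocCoh.idealDepth p M := by
  have := nontrivial_of_isCohenMacaulayModule h
  have hpm : p ≤ IsLocalRing.maximalIdeal R := IsLocalRing.le_maximalIdeal ‹p.IsPrime›.ne_top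
  obtain ⟨e, he⟩ := ENat.ne_top_iff_exists.mp
    (idealDepth_lt_top (smul_top_ne_top_of_le_maximalIdeal (M := M) hpm)).ne
  rw [← he]
  induction e generalizing M with
  | zero =>
    obtain ⟨q, hq, hpq⟩ := idealDepth_eq_zero_iff.mp (by simpa using he.symm)
    have hq' := isPrime_of_mem_associatedPrimes hq
    have hann : Module.annihilator R M ≤ p := by
      have : (⟨p, ‹_›⟩ : PrimeSpectrum R) ∈ Module.support R M := hp
      rw [Module.support_eq_zeroLocus] at this
      exact this
    obtain ⟨q', hq'', hle⟩ := Ideal.exists_minimalPrimes_le hann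
    have hass := Module.associatedPrimes.minimalPrimes_annihilator_subset_associatedPrimes R M hq''
    have hq'p := hq''.1.1
    have heq : q' = q := by
      refine eq_of_le_of_not_lt (hle.trans hpq) fun hlt => ?_
      have h1 := ringKrullDim_quotient_succ_le hlt
      rw [ringKrullDim_quotient_associatedPrime h hq,
        ringKrullDim_quotient_associatedPrime h hass, h] at h1
      obtain ⟨d, hd⟩ := ENat.ne_top_iff_exists.mp (depth_lt_top (R := R) (M := M)).ne
      rw [← hd] at h1
      norm_cast at h1
      omega
    obtain rfl : q' = p := le_antisymm hle (heq ▸ hpq)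
    have hdep : LocCoh.depth (Localization.AtPrime q') (LocalizedModule q'.primeCompl M) = 0 :=
      idealDepth_eq_zero_iff.mpr
        ⟨_, Module.associatedPrimes.mem_associatedPrimes_atPrime_of_mem_associatedPrimes hass, le_rfl⟩
    refine ⟨?_, by simpa using hdep⟩
    unfold LocCoh.IsCohenMacaulayModule
    rw [hdep, supportDim_localizedModule_eq_zero hq'']
    rfl
  | succ e ih =>
    obtain ⟨x, hx, hreg⟩ := exists_isSMulRegular_of_one_le_idealDepth (I := p) (M := M)
      (by rw [← he]; exact_mod_cast Nat.succ_pos e)
    have h' : (e : ℕ∞) = LocCoh.idealDepth p (QuotSMulTop x M) := by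
      have := idealDepth_quotSMulTop_add_one hx hreg
      rw [← he] at this; push_cast at this
      exact (WithTop.add_right_cancel ENat.one_ne_top this).symm
    have hCM := (isCohenMacaulayModule_quotSMulTop_iff (hpm hx) hreg).mpr h
    have hnt : Nontrivial (LocalizedModule p.primeCompl (QuotSMulTop x M)) := by
      show (⟨p, ‹_›⟩ : PrimeSpectrum R) ∈ Module.support R (QuotSMulTop x M)
      rw [Module.support_quotSMulTop]
      exact ⟨hp, by simpa using hx⟩
    obtain ⟨h1, h2⟩ := ih hCM hnt (nontrivial_of_isCohenMacaulayModule hCM) h'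
    let x' := algebraMap R (Localization.AtPrime p) x
    have hx' : x' ∈ IsLocalRing.maximalIdeal (Localization.AtPrime p) :=
      map_le_maximalIdeal le_rfl (Ideal.mem_map_of_mem _ hx)
    have hreg' : IsSMulRegular (LocalizedModule p.primeCompl M) x' :=
      isSMulRegular_localizedModule p.primeCompl hreg
    refine ⟨(isCohenMacaulayModule_quotSMulTop_iff hx' hreg').mp
      ((isCohenMacaulayModule_congr (quotSMulTopLocalizedEquiv M p.primeCompl x)).mpr h1), ?_⟩
    rw [depth_eq_idealDepth, ← idealDepth_quotSMulTop_add_one hx' hreg',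
      idealDepth_congr (quotSMulTopLocalizedEquiv M p.primeCompl x), ← depth_eq_idealDepth, h2]
    push_cast
    rfl

theorem isCohenMacaulayModule_localizedModule (h : LocCoh.IsCohenMacaulayModule R M) (p : Ideal R)
    [p.IsPrime] (hp : Nontrivial (LocalizedModule p.primeCompl M)) :
    LocCoh.IsCohenMacaulayModule (Localization.AtPrime p) (LocalizedModule p.primeCompl M) :=
  (isCohenMacaulayModule_localizedModule_and_depth h p hp).1

theorem depth_localizedModule_eq_idealDepth (h : LocCoh.IsCohenMacaulayModule R M) (p : Ideal R)
    [p.IsPrime] (hp : Nontrivial (LocalizedModule p.primeCompl M)) :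
    LocCoh.depth (Localization.AtPrime p) (LocalizedModule p.primeCompl M) = LocCoh.idealDepth p M :=
  (isCohenMacaulayModule_localizedModule_and_depth h p hp).2

end Basic

section Rings

variable {R : Type u} [CommRing R]

/-- `T⁻¹R` as a module over itself. -/
noncomputable def localizedModuleSelfEquiv (T : Submonoid R) :
    LocalizedModule T R ≃ₗ[Localization T] Localization T :=
  (IsLocalizedModule.iso T (Algebra.linearMap R (Localization T))).extendScalarsOfIsLocalization T
    (Localization T)

theorem isCohenMacaulayModule_self (R : Type u) [CommRing R] [h : LocCoh.IsCohenMacaulayLocalRing R] :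
    LocCoh.IsCohenMacaulayModule R R := h.supportDim_eq_depth

theorem isCohenMacaulayLocalRing_iff [IsLocalRing R] [IsNoetherianRing R] :
    LocCoh.IsCohenMacaulayLocalRing R ↔ LocCoh.IsCohenMacaulayModule R R :=
  ⟨fun h => h.supportDim_eq_depth, fun h => { supportDim_eq_depth := h }⟩

theorem isCohenMacaulayLocalRing_localization [LocCoh.IsCohenMacaulayLocalRing R] (p : Ideal R)
    [p.IsPrime] : LocCoh.IsCohenMacaulayLocalRing (Localization.AtPrime p) := by
  have : Nontrivial (LocalizedModule p.primeCompl R) := (localizedModuleSelfEquiv p.primeCompl).nontrivial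
  exact isCohenMacaulayLocalRing_iff.mpr ((isCohenMacaulayModule_congr
    (localizedModuleSelfEquiv p.primeCompl)).mp
      (isCohenMacaulayModule_localizedModule (isCohenMacaulayModule_self R) p this))

theorem isCohenMacaulayRing_of_isCohenMacaulayLocalRing [LocCoh.IsCohenMacaulayLocalRing R] :
    LocCoh.IsCohenMacaulayRing R :=
  { isCohenMacaulayLocalRing_localization := fun p _ => isCohenMacaulayLocalRing_localization p }

theorem isCohenMacaulayLocalRing_of_isRegularLocalRing [IsRegularLocalRing R] :
    LocCoh.IsCohenMacaulayLocalRing R := by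
  obtain ⟨n, hn, -⟩ := RegLoc.exists_natCast_eq_ringKrullDim R
  have hfr := RegLoc.spanFinrank_eq_dim hn
  obtain ⟨g, hgs⟩ : ∃ g : Fin n → R, Ideal.span (Set.range g) = IsLocalRing.maximalIdeal R := by
    obtain ⟨s, hs1, hs2⟩ := Submodule.FG.exists_span_finset_card_eq_spanFinrank
      (IsNoetherian.noetherian (IsLocalRing.maximalIdeal R))
    rw [hfr] at hs1
    refine ⟨fun i => ((s.equivFinOfCardEq hs1).symm i : R), ?_⟩
    rw [← hs2]
    congr 1
    rw [Set.range_comp' Subtype.val]
    simp
  have hreg := RegLoc.isRegular_ofFn hn g hgs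
  have hle := le_idealDepth_of_isWeaklyRegular (I := IsLocalRing.maximalIdeal R)
    hreg.toIsWeaklyRegular fun r hr => by
      obtain ⟨i, rfl⟩ := List.mem_ofFn.mp hr
      exact hgs ▸ Ideal.subset_span (Set.mem_range_self i)
  rw [List.length_ofFn] at hle
  refine isCohenMacaulayLocalRing_iff.mpr (le_antisymm ?_ depth_le_supportDim)
  rw [Module.supportDim_self_eq_ringKrullDim, hn]
  exact WithBot.coe_le_coe.mpr hle

end Rings

end Groth.Agent.Depth
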