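import Groth.Agent.Depth.Basic
import Mathlib.RingTheory.Regular.Flat
import Mathlib.RingTheory.Ideal.AssociatedPrime.Finiteness
import Mathlib.RingTheory.Ideal.AssociatedPrime.Localization
import Mathlib.RingTheory.Localization.Finiteness
import Mathlib.RingTheory.Localization.Module
import Mathlib.Algebra.Module.LocalizedModule.Exact
import Mathlib.RingTheory.KrullDimension.Regular

/-!
# Depth, associated primes and localization

* `one_le_idealDepth_iff`, `idealDepth_eq_zero_iff`, `exists_isSMulRegular_of_one_le_idealDepth`;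
* `idealDepth_le_idealDepth_of_isBaseChange` (flat base change), `idealDepth_le_depth_localizedModule`;
* `depth_le_ringKrullDim_quotient`: `depth M ≤ dim R/p` for `p ∈ Ass M`; `depth_le_supportDim`;
* `idealDepth_lt_top`; `idealDepth_eq_iInf_depth`.
-/

universe u v w w'

open CategoryTheory RingTheory.Sequence
open scoped Pointwise

namespace Groth.Agent.Depth

section AssociatedPrimes

variable {R : Type u} [CommRing R] [IsNoetherianRing R] {I : Ideal R}
variable {M : Type v} [AddCommGroup M] [Module R M] [Module.Finite R M]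

omit [IsNoetherianRing R] [Module.Finite R M] in
theorem isPrime_of_mem_associatedPrimes {p : Ideal R} (hp : p ∈ associatedPrimes R M) : p.IsPrime :=
  IsAssociatedPrime.isPrime hp

omit [IsNoetherianRing R] [Module.Finite R M] in
theorem annihilator_le_associatedPrime {p : Ideal R} (hp : p ∈ associatedPrimes R M) :
    Module.annihilator R M ≤ p := by
  simpa [Submodule.annihilator_top] using IsAssociatedPrime.annihilator_le hp

omit [IsNoetherianRing R] in
theorem smul_top_ne_top_of_le_associatedPrime {p : Ideal R} (hp : p ∈ associatedPrimes R M)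
    (hIp : I ≤ p) : I • (⊤ : Submodule R M) ≠ ⊤ := by
  intro h
  obtain ⟨a, ha, b, hb, hab⟩ := exists_add_eq_one_of_smul_top_eq_top h
  exact (isPrime_of_mem_associatedPrimes hp).ne_top
    ((Ideal.eq_top_iff_one p).mpr (hab ▸ p.add_mem (annihilator_le_associatedPrime hp ha) (hIp hb)))

omit [Module.Finite R M] in
theorem notMem_of_isSMulRegular {p : Ideal R} (hp : p ∈ associatedPrimes R M) {r : R}
    (hr : IsSMulRegular M r) : r ∉ p := by
  intro hrp
  have : r ∈ ⋃ q ∈ associatedPrimes R M, (q : Set R) := Set.mem_biUnion hp hrp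
  rw [biUnion_associatedPrimes_eq_compl_regular] at this
  exact this hr

theorem exists_isSMulRegular_of_forall_not_le (h : ∀ p ∈ associatedPrimes R M, ¬ I ≤ p) :
    ∃ r ∈ I, IsSMulRegular M r := by
  by_contra hc
  push Not at hc
  have hsub : (I : Set R) ⊆ ⋃ p ∈ associatedPrimes R M, (p : Set R) := by
    rw [biUnion_associatedPrimes_eq_compl_regular]
    exact fun r hr => hc r hr
  obtain ⟨p, hp, hle⟩ := (Ideal.subset_union_prime_finite (associatedPrimes.finite R M) ⊤ ⊤
    (fun p hp _ _ => isPrime_of_mem_associatedPrimes hp)).mp hsub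
  exact h p hp hle

/-- `1 ≤ depth_I M` iff no associated prime of `M` contains `I`. -/
theorem one_le_idealDepth_iff :
    1 ≤ LocCoh.idealDepth I M ↔ ∀ p ∈ associatedPrimes R M, ¬ I ≤ p := by
  refine ⟨fun h p hp hIp => ?_, fun h => ?_⟩
  · obtain ⟨rs, hreg, hmem, hlen⟩ := exists_isWeaklyRegular_of_le_idealDepth
      (smul_top_ne_top_of_le_associatedPrime hp hIp) (n := 1) (by simpa using h)
    match rs, hlen with
    | [x], _ =>
      exact notMem_of_isSMulRegular hp ((isWeaklyRegular_singleton_iff M x).mp hreg)
        (hIp (hmem x List.mem_cons_self))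
  · obtain ⟨r, hr, hreg⟩ := exists_isSMulRegular_of_forall_not_le h
    simpa using le_idealDepth_of_isWeaklyRegular ((isWeaklyRegular_singleton_iff M r).mpr hreg)
      (by simpa using hr)

theorem exists_isSMulRegular_of_one_le_idealDepth (h : 1 ≤ LocCoh.idealDepth I M) :
    ∃ r ∈ I, IsSMulRegular M r :=
  exists_isSMulRegular_of_forall_not_le (one_le_idealDepth_iff.mp h)

theorem idealDepth_eq_zero_iff :
    LocCoh.idealDepth I M = 0 ↔ ∃ p ∈ associatedPrimes R M, I ≤ p := by
  rw [← not_iff_not, ← Ne, ← Order.one_le_iff_pos.trans pos_iff_ne_zero, one_le_idealDepth_iff]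
  push Not; rfl

end AssociatedPrimes

section BaseChange

variable {R : Type u} [CommRing R] {I : Ideal R} {S : Type w} [CommRing S] [Algebra R S]
variable {M : Type v} [AddCommGroup M] [Module R M]
variable {N : Type w'} [AddCommGroup N] [Module R N] [Module S N] [IsScalarTower R S N]

theorem map_smul_top_eq_top_of_isBaseChange {f : M →ₗ[R] N} (hf : IsBaseChange S f)
    (h : I • (⊤ : Submodule R M) = ⊤) : I.map (algebraMap R S) • (⊤ : Submodule S N) = ⊤ := by
  refine Submodule.eq_top_iff'.mpr fun y => ?_
  induction y using hf.inductionOn with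
  | zero => exact zero_mem _
  | tmul m =>
    have hm : m ∈ I • (⊤ : Submodule R M) := by rw [h]; trivial
    refine Submodule.smul_induction_on hm (fun r hr n _ => ?_) (fun a b ha hb => ?_)
    · rw [map_smul, ← IsScalarTower.algebraMap_smul S r (f n)]
      exact Submodule.smul_mem_smul (Ideal.mem_map_of_mem _ hr) Submodule.mem_top
    · rw [map_add]; exact add_mem ha hb
  | smul s n hn => exact Submodule.smul_mem _ s hn
  | add a b ha hb => exact add_mem ha hb

/-- Flat base change does not decrease depth. No finiteness hypotheses. -/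
theorem idealDepth_le_idealDepth_of_isBaseChange [Module.Flat R S] {f : M →ₗ[R] N}
    (hf : IsBaseChange S f) :
    LocCoh.idealDepth I M ≤ LocCoh.idealDepth (I.map (algebraMap R S)) N := by
  by_cases h : I • (⊤ : Submodule R M) = ⊤
  · rw [idealDepth_eq_top_of_smul_top_eq_top (map_smul_top_eq_top_of_isBaseChange hf h)]
    exact le_top
  · rw [idealDepth_eq_iSup h]
    refine iSup₂_le fun rs hrs => ?_
    simpa using le_idealDepth_of_isWeaklyRegular (I := I.map (algebraMap R S))
      (hrs.1.of_flat_of_isBaseChange hf) (by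
        simp only [List.mem_map, forall_exists_index, and_imp, forall_apply_eq_imp_iff₂]
        exact fun r hr => Ideal.mem_map_of_mem _ (hrs.2 r hr))

/-- An exact sequence `M →[x] M → M'' → 0` identifies `M''` with `QuotSMulTop x M`. -/
noncomputable def quotSMulTopEquivOfExact {M'' : Type w'} [AddCommGroup M''] [Module R M'']
    (x : R) (g : M →ₗ[R] M'') (hg : Function.Surjective g)
    (hex : ∀ m, g m = 0 ↔ ∃ n, x • n = m) : QuotSMulTop x M ≃ₗ[R] M'' :=
  (Submodule.quotEquivOfEq _ _ (by
    ext m
    rw [LinearMap.mem_ker, hex m, Submodule.mem_smul_pointwise_iff_exists]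
    simp)).trans (g.quotKerEquivOfSurjective hg)

theorem idealDepth_le_idealDepth_localizedModule (T : Submonoid R) :
    LocCoh.idealDepth I M ≤
      LocCoh.idealDepth (I.map (algebraMap R (Localization T))) (LocalizedModule T M) :=
  have : Module.Flat R (Localization T) := IsLocalization.flat _ T
  idealDepth_le_idealDepth_of_isBaseChange
    (IsLocalizedModule.isBaseChange T (Localization T) (LocalizedModule.mkLinearMap T M))

theorem isSMulRegular_localizedModule (T : Submonoid R) {x : R} (h : IsSMulRegular M x) :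
    IsSMulRegular (LocalizedModule T M) (algebraMap R (Localization T) x) :=
  have : Module.Flat R (Localization T) := IsLocalization.flat _ T
  h.of_flat_of_isBaseChange
    (IsLocalizedModule.isBaseChange T (Localization T) (LocalizedModule.mkLinearMap T M))

variable (M) in
/-- Localization commutes with `QuotSMulTop`. -/
noncomputable def quotSMulTopLocalizedEquiv (T : Submonoid R) (x : R) :
    QuotSMulTop (algebraMap R (Localization T) x) (LocalizedModule T M) ≃ₗ[Localization T]
      LocalizedModule T (QuotSMulTop x M) :=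
  quotSMulTopEquivOfExact _ (LocalizedModule.map T (Submodule.mkQ (x • (⊤ : Submodule R M))))
    (LocalizedModule.map_surjective _ _ (Submodule.mkQ_surjective _)) fun m => by
      have hexact := IsLocalizedModule.map_exact T
        (LocalizedModule.mkLinearMap T M) (LocalizedModule.mkLinearMap T M)
        (LocalizedModule.mkLinearMap T (QuotSMulTop x M)) (LinearMap.lsmul R M x)
        (Submodule.mkQ (x • (⊤ : Submodule R M))) (LinearMap.exact_lsmul_mkQ_smul_top M x)
      refine (hexact m).trans ?_
      refine exists_congr fun n => Eq.congr_left ?_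
      induction n using LocalizedModule.induction_on with
      | h a s =>
        rw [IsLocalizedModule.mk_eq_mk', IsLocalizedModule.map_mk', IsScalarTower.algebraMap_smul,
          ← IsLocalizedModule.mk'_smul]
        rfl

theorem map_le_maximalIdeal {p : Ideal R} [p.IsPrime] (hIp : I ≤ p) :
    I.map (algebraMap R (Localization.AtPrime p)) ≤
      IsLocalRing.maximalIdeal (Localization.AtPrime p) := by
  refine (Ideal.map_mono hIp).trans ?_
  rw [Localization.AtPrime.map_eq_maximalIdeal]

theorem idealDepth_le_depth_localizedModule (p : Ideal R) [p.IsPrime] (hIp : I ≤ p) :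
    LocCoh.idealDepth I M ≤
      LocCoh.depth (Localization.AtPrime p) (LocalizedModule p.primeCompl M) :=
  (idealDepth_le_idealDepth_localizedModule p.primeCompl).trans
    (idealDepth_mono (map_le_maximalIdeal hIp))

end BaseChange

section Ischebeck

variable {R : Type u} [CommRing R] [IsNoetherianRing R] [IsLocalRing R]

theorem exists_associatedPrime_quotSMulTop {M : Type u} [AddCommGroup M] [Module R M]
    [Module.Finite R M] {x : R} (hx : x ∈ IsLocalRing.maximalIdeal R) (hreg : IsSMulRegular M x)
    {p : Ideal R} (hp : p ∈ associatedPrimes R M) :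
    ∃ q ∈ associatedPrimes R (QuotSMulTop x M), p ≤ q ∧ x ∈ q := by
  obtain ⟨hprime, z₀, hz₀⟩ := isAssociatedPrime_iff.mp hp
  let N : Submodule R M := Submodule.torsionBySet R M (p : Set R)
  have hz₀N : z₀ ∈ N := (Submodule.mem_torsionBySet_iff _ _).mpr fun ⟨a, ha⟩ => by
    rw [hz₀] at ha
    simpa using Submodule.mem_colon_singleton.mp ha
  have hz₀ne : z₀ ≠ 0 := by
    rintro rfl
    exact hprime.ne_top (by rw [hz₀]; exact (Ideal.eq_top_iff_one _).mpr (by simp [Submodule.mem_colon_singleton]))
  obtain ⟨z, hzN, hzx⟩ : ∃ z ∈ N, z ∉ x • (⊤ : Submodule R M) := by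
    by_contra hc
    push Not at hc
    have hN : N ≤ Ideal.span {x} • N := by
      intro z hz
      obtain ⟨w, -, rfl⟩ := (Submodule.mem_smul_pointwise_iff_exists _ _ _).mp (hc z hz)
      refine Submodule.smul_mem_smul (Ideal.mem_span_singleton_self x)
        ((Submodule.mem_torsionBySet_iff _ _).mpr fun a => hreg ?_)
      simpa [smul_comm x (a : R) w] using (Submodule.mem_torsionBySet_iff _ _).mp hz a
    have := Submodule.eq_bot_of_le_smul_of_le_jacobson_bot (Ideal.span {x}) N (IsNoetherian.noetherian N)
      hN (((Ideal.span_singleton_le_iff_mem _).mpr hx).trans (IsLocalRing.maximalIdeal_le_jacobson _))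
    exact hz₀ne ((Submodule.eq_bot_iff _).mp this z₀ hz₀N)
  have hne : (Submodule.Quotient.mk z : QuotSMulTop x M) ≠ 0 := by
    simpa [Submodule.Quotient.mk_eq_zero] using hzx
  obtain ⟨q, hq, hle⟩ := exists_le_isAssociatedPrime_of_isNoetherianRing R _ hne
  refine ⟨q, hq, fun a ha => hle ?_, hle ?_⟩
  · have hz := (Submodule.mem_torsionBySet_iff _ _).mp hzN ⟨a, ha⟩
    rw [Submodule.mem_colon_singleton, Submodule.mem_bot, ← Submodule.Quotient.mk_smul, hz,
      Submodule.Quotient.mk_zero]
  · rw [Submodule.mem_colon_singleton, Submodule.mem_bot, ← Submodule.Quotient.mk_smul,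
      Submodule.Quotient.mk_eq_zero]
    exact Submodule.smul_mem_pointwise_smul z x ⊤ Submodule.mem_top

omit [IsNoetherianRing R] [IsLocalRing R] in
theorem ringKrullDim_quotient_succ_le {p q : Ideal R} [p.IsPrime] [q.IsPrime] (hlt : p < q) :
    ringKrullDim (R ⧸ q) + 1 ≤ ringKrullDim (R ⧸ p) := by
  obtain ⟨a, haq, hap⟩ := SetLike.exists_of_lt hlt
  have ha : Ideal.Quotient.mk p a ∈ nonZeroDivisors (R ⧸ p) :=
    mem_nonZeroDivisors_of_ne_zero (by simpa [Ideal.Quotient.eq_zero_iff_mem] using hap)
  refine le_trans ?_ (ringKrullDim_quotient_succ_le_of_nonZeroDivisor ha)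
  refine add_le_add (ringKrullDim_le_of_surjective
    (Ideal.Quotient.lift (Ideal.span {Ideal.Quotient.mk p a})
      (Ideal.Quotient.factor hlt.le) ?_) ?_) le_rfl
  · intro b hb
    obtain ⟨c, rfl⟩ := Ideal.mem_span_singleton.mp hb
    rw [map_mul, Ideal.Quotient.factor_mk, Ideal.Quotient.eq_zero_iff_mem.mpr haq, zero_mul]
  · exact Ideal.Quotient.lift_surjective_of_surjective _ _ (Ideal.Quotient.factor_surjective hlt.le)

/-- Ischebeck: `depth M ≤ dim R/p` for every associated prime `p` of `M`. -/
theorem depth_le_ringKrullDim_quotient {M : Type u} [AddCommGroup M] [Module R M] [Module.Finite R M]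
    {p : Ideal R} (hp : p ∈ associatedPrimes R M) :
    ((LocCoh.depth R M : ℕ∞) : WithBot ℕ∞) ≤ ringKrullDim (R ⧸ p) := by
  suffices H : ∀ (n : ℕ) (M : Type u) [AddCommGroup M] [Module R M] [Module.Finite R M] (p : Ideal R),
      p ∈ associatedPrimes R M → (n : ℕ∞) ≤ LocCoh.depth R M → (n : WithBot ℕ∞) ≤ ringKrullDim (R ⧸ p) by
    rcases eq_or_ne (LocCoh.depth R M) ⊤ with h | h
    · rw [h]
      have htop : ∀ n : ℕ, (n : WithBot ℕ∞) ≤ ringKrullDim (R ⧸ p) := fun n => H n M p hp (by rw [h]; exact le_top)
      match hd : ringKrullDim (R ⧸ p), htop with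
      | ⊥, htop => exact absurd (htop 0) (by simp)
      | (d : ℕ∞), htop =>
        exact WithBot.coe_le_coe.mpr (ENat.forall_natCast_le_iff_le.mp fun n _ => WithBot.coe_le_coe.mp (htop n))
    · obtain ⟨d, hd⟩ := ENat.ne_top_iff_exists.mp h
      rw [← hd]
      exact H d M p hp (hd.le)
  intro n
  induction n with
  | zero =>
    intro M _ _ _ p hp _
    have := (isPrime_of_mem_associatedPrimes hp)
    exact ringKrullDim_nonneg_of_nontrivial
  | succ n ih =>
    intro M _ _ _ p hp h
    have := (isPrime_of_mem_associatedPrimes hp)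
    have h1 : 1 ≤ LocCoh.idealDepth (IsLocalRing.maximalIdeal R) M :=
      le_trans (by exact_mod_cast Nat.succ_pos n) h
    obtain ⟨x, hx, hreg⟩ := exists_isSMulRegular_of_one_le_idealDepth h1
    obtain ⟨q, hq, hpq, hxq⟩ := exists_associatedPrime_quotSMulTop hx hreg hp
    have := (isPrime_of_mem_associatedPrimes hq)
    have hlt : p < q := lt_of_le_of_ne hpq fun e => notMem_of_isSMulRegular hp hreg (e ▸ hxq)
    push_cast
    exact le_trans (add_le_add (ih _ q hq ((le_idealDepth_quotSMulTop_iff hx hreg n).mpr h)) le_rfl)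
      (ringKrullDim_quotient_succ_le hlt)

theorem depth_le_supportDim {M : Type u} [AddCommGroup M] [Module R M] [Module.Finite R M]
    [Nontrivial M] : ((LocCoh.depth R M : ℕ∞) : WithBot ℕ∞) ≤ Module.supportDim R M := by
  obtain ⟨p, hp⟩ := associatedPrimes.nonempty R M
  refine (depth_le_ringKrullDim_quotient hp).trans ?_
  rw [Module.supportDim_eq_ringKrullDim_quotient_annihilator]
  exact ringKrullDim_le_of_surjective (Ideal.Quotient.factor (annihilator_le_associatedPrime hp))
    (Ideal.Quotient.factor_surjective _)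

theorem depth_lt_top {M : Type u} [AddCommGroup M] [Module R M] [Module.Finite R M]
    [Nontrivial M] : LocCoh.depth R M < ⊤ := by
  have h : ((LocCoh.depth R M : ℕ∞) : WithBot ℕ∞) < ((⊤ : ℕ∞) : WithBot ℕ∞) :=
    lt_of_le_of_lt (depth_le_supportDim.trans (Module.supportDim_le_ringKrullDim R M))
      ringKrullDim_lt_top
  exact WithBot.coe_lt_coe.mp h

end Ischebeck

section Infimum

variable {R : Type u} [CommRing R] [IsNoetherianRing R] {I : Ideal R}

theorem idealDepth_lt_top {M : Type u} [AddCommGroup M] [Module R M] [Module.Finite R M]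
    (hIM : I • (⊤ : Submodule R M) ≠ ⊤) : LocCoh.idealDepth I M < ⊤ := by
  obtain ⟨p, hp, hle⟩ : ∃ p : Ideal R, p.IsPrime ∧ Module.annihilator R M ⊔ I ≤ p := by
    have : Module.annihilator R M ⊔ I ≠ ⊤ := fun e => hIM <| by
      obtain ⟨a, ha, b, hb, hab⟩ := Submodule.mem_sup.mp ((Ideal.eq_top_iff_one _).mp e)
      exact smul_top_eq_top_of_add_eq_one ha hb hab
    obtain ⟨m, hm, hle⟩ := Ideal.exists_le_maximal _ this
    exact ⟨m, hm.isPrime, hle⟩
  have : Nontrivial (LocalizedModule p.primeCompl M) := by
    have hmem : (⟨p, hp⟩ : PrimeSpectrum R) ∈ Module.support R M := by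
      rw [Module.support_eq_zeroLocus]; exact le_sup_left.trans hle
    exact hmem
  exact lt_of_le_of_lt (idealDepth_le_depth_localizedModule p (le_sup_right.trans hle)) depth_lt_top

theorem exists_depth_localizedModule_le (e : ℕ) :
    ∀ (M : Type u) [AddCommGroup M] [Module R M] [Module.Finite R M],
      LocCoh.idealDepth I M = e → ∃ p : PrimeSpectrum R, I ≤ p.asIdeal ∧
        LocCoh.depth (Localization.AtPrime p.asIdeal) (LocalizedModule p.asIdeal.primeCompl M) ≤ e := by
  induction e with
  | zero =>
    intro M _ _ _ h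
    obtain ⟨p, hp, hIp⟩ := idealDepth_eq_zero_iff.mp (by simpa using h)
    have := isPrime_of_mem_associatedPrimes hp
    refine ⟨⟨p, this⟩, hIp, le_of_eq ?_⟩
    rw [depth_eq_idealDepth, Nat.cast_zero, idealDepth_eq_zero_iff]
    exact ⟨_, Module.associatedPrimes.mem_associatedPrimes_atPrime_of_mem_associatedPrimes hp, le_rfl⟩
  | succ e ih =>
    intro M _ _ _ h
    obtain ⟨x, hx, hreg⟩ := exists_isSMulRegular_of_one_le_idealDepth (I := I) (M := M)
      (by rw [h]; exact_mod_cast Nat.succ_pos e)
    have h' : LocCoh.idealDepth I (QuotSMulTop x M) = e := by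
      have := idealDepth_quotSMulTop_add_one hx hreg
      rw [h] at this; push_cast at this
      exact WithTop.add_right_cancel ENat.one_ne_top this
    obtain ⟨p, hIp, hle⟩ := ih _ h'
    refine ⟨p, hIp, ?_⟩
    rw [depth_eq_idealDepth, ← idealDepth_quotSMulTop_add_one
      (map_le_maximalIdeal hIp (Ideal.mem_map_of_mem _ hx))
      (isSMulRegular_localizedModule p.asIdeal.primeCompl hreg),
      idealDepth_congr (quotSMulTopLocalizedEquiv M p.asIdeal.primeCompl x)]
    push_cast
    exact add_le_add hle le_rfl

/-- `depth_I M` is the infimum of the depths of `M_p`, `p ⊇ I`. -/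
theorem idealDepth_eq_iInf_depth {M : Type u} [AddCommGroup M] [Module R M] [Module.Finite R M] :
    LocCoh.idealDepth I M = ⨅ (p : PrimeSpectrum R) (_ : I ≤ p.asIdeal),
      LocCoh.depth (Localization.AtPrime p.asIdeal) (LocalizedModule p.asIdeal.primeCompl M) := by
  refine le_antisymm (le_iInf₂ fun p hp => idealDepth_le_depth_localizedModule p.asIdeal hp) ?_
  rcases eq_or_ne (LocCoh.idealDepth I M) ⊤ with h | h
  · rw [h]; exact le_top
  · obtain ⟨e, he⟩ := ENat.ne_top_iff_exists.mp h
    obtain ⟨p, hp, hle⟩ := exists_depth_localizedModule_le e M he.symm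
    rw [← he]
    exact iInf₂_le_of_le p hp hle

/-- Cutting by a weakly regular sequence in `I` lowers the depth by its length. -/
theorem idealDepth_quotient_add_length : ∀ (rs : List R) (M : Type u) [AddCommGroup M] [Module R M]
    [Module.Finite R M], IsWeaklyRegular M rs → (∀ r ∈ rs, r ∈ I) →
      LocCoh.idealDepth I (M ⧸ (Ideal.ofList rs • ⊤ : Submodule R M)) + rs.length =
        LocCoh.idealDepth I M := by
  intro rs
  induction rs with
  | nil =>
    intro M _ _ _ _ _
    simpa using idealDepth_congr (Submodule.quotEquivOfEqBot _ (by simp))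
  | cons x rs ih =>
    intro M _ _ _ hreg hmem
    rw [isWeaklyRegular_cons_iff] at hreg
    rw [← idealDepth_quotSMulTop_add_one (hmem x List.mem_cons_self) hreg.1,
      ← ih (QuotSMulTop x M) hreg.2 fun r hr => hmem r (List.mem_cons_of_mem x hr),
      idealDepth_congr (Submodule.quotOfListConsSMulTopEquivQuotSMulTopInner M x rs)]
    push_cast [List.length_cons]
    rw [add_assoc]

end Infimum

end Groth.Agent.Depth
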