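import Groth.Prelude.Def_CAlg
import Mathlib.RingTheory.Depth.Rees
import Mathlib.Algebra.Category.ModuleCat.Ext.HasExt
import Mathlib.Algebra.Category.ModuleCat.EnoughInjectives

/-!
# Basic API for `LocCoh.idealDepth`

* `le_idealDepth_of_isWeaklyRegular`, `exists_isWeaklyRegular_of_le_idealDepth`: the definition as a supremum;
* `idealDepth_congr`, `idealDepth_mono`;
* `subsingleton_ext_of_isWeaklyRegular`: regular sequences kill `Ext^i(N, M)` (no finiteness hypothesis);
* `le_idealDepth_iff_ext`: Rees' characterisation, valid also when `I • ⊤ = ⊤`;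
* `le_idealDepth_quotSMulTop_iff`, `idealDepth_quotSMulTop_add_one`;
* `min_le_idealDepth_X₁/X₂/X₃`: inequalities along short exact sequences.
-/

universe u v w

open CategoryTheory RingTheory.Sequence
open scoped Pointwise

namespace Groth.Agent.Depth

section Elementary

variable {R : Type u} [CommRing R] {I J : Ideal R}
variable {M : Type v} [AddCommGroup M] [Module R M]
variable {N : Type w} [AddCommGroup N] [Module R N]

theorem idealDepth_eq_top_of_smul_top_eq_top (h : I • (⊤ : Submodule R M) = ⊤) :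
    LocCoh.idealDepth I M = ⊤ := by
  unfold LocCoh.idealDepth; rw [if_pos h]

theorem idealDepth_eq_iSup (h : I • (⊤ : Submodule R M) ≠ ⊤) :
    LocCoh.idealDepth I M =
      ⨆ (rs : List R) (_ : IsWeaklyRegular M rs ∧ ∀ r ∈ rs, r ∈ I), (rs.length : ℕ∞) := by
  unfold LocCoh.idealDepth; rw [if_neg h]

theorem smul_top_eq_top_of_subsingleton [Subsingleton M] : I • (⊤ : Submodule R M) = ⊤ :=
  Submodule.eq_top_iff'.mpr fun x => by simp [Subsingleton.elim x 0]

theorem idealDepth_eq_top_of_subsingleton [Subsingleton M] : LocCoh.idealDepth I M = ⊤ :=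
  idealDepth_eq_top_of_smul_top_eq_top smul_top_eq_top_of_subsingleton

theorem le_idealDepth_of_isWeaklyRegular {rs : List R} (h : IsWeaklyRegular M rs)
    (hI : ∀ r ∈ rs, r ∈ I) : (rs.length : ℕ∞) ≤ LocCoh.idealDepth I M := by
  by_cases hIM : I • (⊤ : Submodule R M) = ⊤
  · rw [idealDepth_eq_top_of_smul_top_eq_top hIM]; exact le_top
  · rw [idealDepth_eq_iSup hIM]
    exact le_iSup₂_of_le rs ⟨h, hI⟩ le_rfl

/-- A prefix of a weakly regular sequence is weakly regular. -/
theorem isWeaklyRegular_take {rs : List R} (h : IsWeaklyRegular M rs) (n : ℕ) :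
    IsWeaklyRegular M (rs.take n) := by
  have h' := h
  rw [← List.take_append_drop n rs, isWeaklyRegular_append_iff] at h'
  exact h'.1

theorem exists_isWeaklyRegular_of_le_idealDepth (hIM : I • (⊤ : Submodule R M) ≠ ⊤) {n : ℕ}
    (h : (n : ℕ∞) ≤ LocCoh.idealDepth I M) :
    ∃ rs : List R, IsWeaklyRegular M rs ∧ (∀ r ∈ rs, r ∈ I) ∧ rs.length = n := by
  rcases n with - | n
  · exact ⟨[], IsWeaklyRegular.nil R M, by simp, rfl⟩
  rw [idealDepth_eq_iSup hIM] at h
  have hlt : (n : ℕ∞) < ⨆ (rs : List R) (_ : IsWeaklyRegular M rs ∧ ∀ r ∈ rs, r ∈ I),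
      (rs.length : ℕ∞) := lt_of_lt_of_le (by exact_mod_cast Nat.lt_succ_self n) h
  simp only [lt_iSup_iff] at hlt
  obtain ⟨rs, hrs, hlen⟩ := hlt
  have hlen' : n < rs.length := by exact_mod_cast hlen
  exact ⟨rs.take (n + 1), isWeaklyRegular_take hrs.1 _, fun r hr => hrs.2 r (List.mem_of_mem_take hr),
    by simp; omega⟩

theorem idealDepth_mono (h : I ≤ J) : LocCoh.idealDepth I M ≤ LocCoh.idealDepth J M := by
  by_cases hJ : J • (⊤ : Submodule R M) = ⊤
  · rw [idealDepth_eq_top_of_smul_top_eq_top hJ]; exact le_top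
  · have hI : I • (⊤ : Submodule R M) ≠ ⊤ := fun e =>
      hJ (top_unique (e.ge.trans (Submodule.smul_mono_left h)))
    rw [idealDepth_eq_iSup hI]
    exact iSup₂_le fun rs hrs => le_idealDepth_of_isWeaklyRegular hrs.1 fun r hr => h (hrs.2 r hr)

theorem smul_top_eq_top_congr (e : M ≃ₗ[R] N) :
    I • (⊤ : Submodule R M) = ⊤ ↔ I • (⊤ : Submodule R N) = ⊤ := by
  have : Submodule.map e.toLinearMap (I • (⊤ : Submodule R M)) = I • (⊤ : Submodule R N) := by
    rw [Submodule.map_smul'', Submodule.map_top, LinearEquiv.range]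
  rw [← this]
  refine ⟨fun h => by rw [h, Submodule.map_top, LinearEquiv.range], fun h => ?_⟩
  apply Submodule.map_injective_of_injective e.injective
  rw [h, Submodule.map_top, LinearEquiv.range]

theorem idealDepth_congr (e : M ≃ₗ[R] N) : LocCoh.idealDepth I M = LocCoh.idealDepth I N := by
  by_cases h : I • (⊤ : Submodule R M) = ⊤
  · rw [idealDepth_eq_top_of_smul_top_eq_top h,
      idealDepth_eq_top_of_smul_top_eq_top ((smul_top_eq_top_congr e).mp h)]
  · rw [idealDepth_eq_iSup h, idealDepth_eq_iSup (fun h' => h ((smul_top_eq_top_congr e).mpr h'))]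
    exact iSup_congr fun rs => iSup_congr_Prop (by rw [e.isWeaklyRegular_congr rs]) fun _ => rfl

theorem depth_eq_idealDepth [IsLocalRing R] :
    LocCoh.depth R M = LocCoh.idealDepth (IsLocalRing.maximalIdeal R) M := rfl

theorem smul_top_ne_top_of_le_maximalIdeal [IsLocalRing R] [Module.Finite R M] [Nontrivial M]
    (h : I ≤ IsLocalRing.maximalIdeal R) : I • (⊤ : Submodule R M) ≠ ⊤ := by
  intro e
  refine (top_ne_bot (α := Submodule R M)) (Submodule.eq_bot_of_le_smul_of_le_jacobson_bot I ⊤ ?_ e.ge ?_)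
  · exact Module.Finite.fg_top
  · exact h.trans (IsLocalRing.maximalIdeal_le_jacobson _)

/-- If `I M = M` for a finite module, then `I + ann M = R`. -/
theorem exists_add_eq_one_of_smul_top_eq_top [Module.Finite R M]
    (h : I • (⊤ : Submodule R M) = ⊤) : ∃ a ∈ Module.annihilator R M, ∃ b ∈ I, a + b = 1 := by
  obtain ⟨r, hr, hr'⟩ :=
    Submodule.exists_sub_one_mem_and_smul_eq_zero_of_fg_of_le_smul I ⊤ Module.Finite.fg_top h.ge
  exact ⟨r, Module.mem_annihilator.mpr fun m => hr' m Submodule.mem_top, 1 - r,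
    by simpa using I.neg_mem hr, by ring⟩

theorem smul_top_eq_top_of_add_eq_one {a b : R} (ha : a ∈ Module.annihilator R M) (hb : b ∈ I)
    (hab : a + b = 1) : I • (⊤ : Submodule R M) = ⊤ :=
  Submodule.eq_top_iff'.mpr fun x => by
    rw [← one_smul R x, ← hab, add_smul, Module.mem_annihilator.mp ha x, zero_add]
    exact Submodule.smul_mem_smul hb Submodule.mem_top

theorem smul_top_quotSMulTop_eq_top_iff {x : R} (hx : x ∈ I) :
    I • (⊤ : Submodule R (QuotSMulTop x M)) = ⊤ ↔ I • (⊤ : Submodule R M) = ⊤ := by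
  have hle : x • (⊤ : Submodule R M) ≤ I • ⊤ := by
    rw [← Submodule.ideal_span_singleton_smul]
    exact Submodule.smul_mono_left ((Ideal.span_singleton_le_iff_mem I).mpr hx)
  have e : Submodule.comap (x • (⊤ : Submodule R M)).mkQ (I • (⊤ : Submodule R (QuotSMulTop x M))) =
      I • (⊤ : Submodule R M) := by
    rw [Submodule.comap_smul_top_of_surjective I _ (Submodule.mkQ_surjective _), Submodule.ker_mkQ,
      sup_eq_left.mpr hle]
  refine ⟨fun h => ?_, fun h => ?_⟩
  · rw [← e, h, Submodule.comap_top]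
  · have : Submodule.map (x • (⊤ : Submodule R M)).mkQ (I • ⊤) = I • ⊤ := by
      rw [Submodule.map_smul'', Submodule.map_top, Submodule.range_mkQ]
    rw [← this, h, Submodule.map_top, Submodule.range_mkQ]

end Elementary

section ExtVanishing

variable {R : Type u} [CommRing R]

/-- If `r` acts invertibly-up-to-zero on `Ext`, i.e. is regular and acts nilpotently on the source. -/
theorem subsingleton_ext_of_isSMulRegular_of_smul_eq_zero {N M : ModuleCat.{u} R} {i : ℕ} {a : R}
    (hreg : IsSMulRegular (Abelian.Ext N M i) a) (k : ℕ) (hk : ∀ x : N, a ^ k • x = 0) :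
    Subsingleton (Abelian.Ext N M i) := by
  refine subsingleton_of_forall_eq 0 fun e => (hreg.pow k) ?_
  have h0 : a ^ k • 𝟙 N = 0 := by
    ext x; simpa using hk x
  have : a ^ k • e = (Abelian.Ext.mk₀ (a ^ k • 𝟙 N)).comp e (zero_add i) := by
    simp [Abelian.Ext.mk₀_smul]
  simp only [smul_zero]
  rw [this, h0]
  simp

/-- `Ext^i(N, M) = 0` for `i` below the length of an `M`-regular sequence all of whose elements
act nilpotently on `N`. No finiteness hypotheses. -/
theorem subsingleton_ext_of_isWeaklyRegular {N : ModuleCat.{u} R} :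
    ∀ (rs : List R) (M : ModuleCat.{u} R), IsWeaklyRegular M rs →
      (∀ r ∈ rs, ∃ k : ℕ, ∀ x : N, r ^ k • x = 0) → ∀ i < rs.length,
        Subsingleton (Abelian.Ext N M i) := by
  intro rs
  induction rs with
  | nil => simp
  | cons a rs ih =>
    intro M hreg hN i hi
    rw [isWeaklyRegular_cons_iff] at hreg
    obtain ⟨k, hk⟩ := hN a List.mem_cons_self
    refine subsingleton_ext_of_isSMulRegular_of_smul_eq_zero (a := a) ?_ k hk
    rw [← Abelian.Ext.postcomp_smul_id_mono_iff]
    cases i with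
    | zero =>
      have : Mono (a • 𝟙 M) := (ModuleCat.mono_iff_injective _).mpr hreg.1
      exact Abelian.Ext.mono_postcomp_mk₀_of_mono N _
    | succ i =>
      have hsub : Subsingleton (Abelian.Ext N (ModuleCat.of R (QuotSMulTop a M)) i) :=
        ih (ModuleCat.of R (QuotSMulTop a M)) hreg.2 (fun r hr => hN r (List.mem_cons_of_mem a hr)) i
          (by simpa using hi)
      have := (Abelian.Ext.covariant_sequence_exact₁' N hreg.1.smulShortComplex_shortExact i (i + 1)
        rfl).mono_g ((AddCommGrpCat.isZero_of_iff_subsingleton.mpr hsub).eq_zero_of_src _)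
      exact this

variable {N : ModuleCat.{u} R}

theorem subsingleton_ext_X₂ {S : ShortComplex (ModuleCat.{u} R)} (hS : S.ShortExact) {i : ℕ}
    (h₁ : Subsingleton (Abelian.Ext N S.X₁ i)) (h₃ : Subsingleton (Abelian.Ext N S.X₃ i)) :
    Subsingleton (Abelian.Ext N S.X₂ i) :=
  AddCommGrpCat.subsingleton_of_isZero <| ShortComplex.Exact.isZero_of_both_zeros
    (Abelian.Ext.covariant_sequence_exact₂' N hS i)
    ((AddCommGrpCat.isZero_of_iff_subsingleton.mpr h₁).eq_zero_of_src _)
    ((AddCommGrpCat.isZero_of_iff_subsingleton.mpr h₃).eq_zero_of_tgt _)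

theorem subsingleton_ext_X₃ {S : ShortComplex (ModuleCat.{u} R)} (hS : S.ShortExact) {i : ℕ}
    (h₂ : Subsingleton (Abelian.Ext N S.X₂ i)) (h₁ : Subsingleton (Abelian.Ext N S.X₁ (i + 1))) :
    Subsingleton (Abelian.Ext N S.X₃ i) :=
  AddCommGrpCat.subsingleton_of_isZero <| ShortComplex.Exact.isZero_of_both_zeros
    (Abelian.Ext.covariant_sequence_exact₃' N hS i (i + 1) rfl)
    ((AddCommGrpCat.isZero_of_iff_subsingleton.mpr h₂).eq_zero_of_src _)
    ((AddCommGrpCat.isZero_of_iff_subsingleton.mpr h₁).eq_zero_of_tgt _)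

theorem subsingleton_ext_X₁_zero {S : ShortComplex (ModuleCat.{u} R)} (hS : S.ShortExact)
    (h₂ : Subsingleton (Abelian.Ext N S.X₂ 0)) : Subsingleton (Abelian.Ext N S.X₁ 0) :=
  have := hS.mono_f
  (Abelian.Ext.postcomp_mk₀_injective_of_mono N S.f).subsingleton

theorem subsingleton_ext_X₁ {S : ShortComplex (ModuleCat.{u} R)} (hS : S.ShortExact) {i : ℕ}
    (h₂ : Subsingleton (Abelian.Ext N S.X₂ i))
    (h₃ : ∀ j, j + 1 = i → Subsingleton (Abelian.Ext N S.X₃ j)) :
    Subsingleton (Abelian.Ext N S.X₁ i) := by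
  cases i with
  | zero => exact subsingleton_ext_X₁_zero hS h₂
  | succ i =>
    exact AddCommGrpCat.subsingleton_of_isZero <| ShortComplex.Exact.isZero_of_both_zeros
      (Abelian.Ext.covariant_sequence_exact₁' N hS i (i + 1) rfl)
      ((AddCommGrpCat.isZero_of_iff_subsingleton.mpr (h₃ i rfl)).eq_zero_of_src _)
      ((AddCommGrpCat.isZero_of_iff_subsingleton.mpr h₂).eq_zero_of_tgt _)

theorem subsingleton_ext_of_add_eq_one {M : ModuleCat.{u} R} {a b : R}
    (ha : a ∈ Module.annihilator R M) (hb : ∀ x : N, b • x = 0) (hab : a + b = 1) (i : ℕ) :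
    Subsingleton (Abelian.Ext N M i) := by
  refine subsingleton_of_forall_eq 0 fun e => ?_
  have hbN : b • 𝟙 N = 0 := by ext x; simpa using hb x
  have haM : a • 𝟙 M = 0 := by ext x; simpa using Module.mem_annihilator.mp ha x
  have h1 : b • e = (Abelian.Ext.mk₀ (b • 𝟙 N)).comp e (zero_add i) := by
    simp [Abelian.Ext.mk₀_smul]
  have h2 : a • e = e.comp (Abelian.Ext.mk₀ (a • 𝟙 M)) (add_zero i) := by
    simp [Abelian.Ext.mk₀_smul]
  calc e = a • e + b • e := by rw [← add_smul, hab, one_smul]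
    _ = 0 := by rw [h1, h2, hbN, haM]; simp

end ExtVanishing

section Rees

variable {R : Type u} [CommRing R] {I : Ideal R}
variable {M : Type u} [AddCommGroup M] [Module R M]

theorem smul_quotient_eq_zero {r : R} (hr : r ∈ I) (x : ModuleCat.of R (R ⧸ I)) : r • x = 0 := by
  obtain ⟨y, rfl⟩ := Ideal.Quotient.mk_surjective x
  exact Ideal.Quotient.eq_zero_iff_mem.mpr (I.mul_mem_right y hr)

theorem subsingleton_ext_of_lt_idealDepth [Module.Finite R M] (N : ModuleCat.{u} R)
    (hN : ∀ r ∈ I, ∃ k : ℕ, ∀ x : N, r ^ k • x = 0)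
    {n : ℕ} (h : (n : ℕ∞) ≤ LocCoh.idealDepth I M) {i : ℕ} (hi : i < n) :
    Subsingleton (Abelian.Ext N (ModuleCat.of R M) i) := by
  by_cases hIM : I • (⊤ : Submodule R M) = ⊤
  · obtain ⟨a, ha, b, hb, hab⟩ := exists_add_eq_one_of_smul_top_eq_top hIM
    obtain ⟨k, hk⟩ := hN b hb
    obtain ⟨c, hc⟩ : a ∣ 1 - b ^ k := by
      have : (1 : R) - b ∣ 1 - b ^ k := one_sub_dvd_one_sub_pow b k
      rwa [show (1 : R) - b = a by rw [← hab]; ring] at this
    exact subsingleton_ext_of_add_eq_one (a := a * c) (b := b ^ k)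
      (Ideal.mul_mem_right _ _ ha) hk (by rw [← hc]; ring) i
  · obtain ⟨rs, hreg, hmem, hlen⟩ := exists_isWeaklyRegular_of_le_idealDepth hIM h
    exact subsingleton_ext_of_isWeaklyRegular rs (ModuleCat.of R M) hreg
      (fun r hr => hN r (hmem r hr)) i (hlen ▸ hi)

/-- Rees: `n ≤ depth_I M` iff `Ext^i(R/I, M) = 0` for all `i < n`. -/
theorem le_idealDepth_iff_ext [IsNoetherianRing R] [Module.Finite R M] (n : ℕ) :
    (n : ℕ∞) ≤ LocCoh.idealDepth I M ↔
      ∀ i < n, Subsingleton (Abelian.Ext (ModuleCat.of R (R ⧸ I)) (ModuleCat.of R M) i) := by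
  refine ⟨fun h i hi => subsingleton_ext_of_lt_idealDepth _
    (fun r hr => ⟨1, fun x => by rw [pow_one]; exact smul_quotient_eq_zero hr x⟩) h hi, fun h => ?_⟩
  by_cases hIM : I • (⊤ : Submodule R M) = ⊤
  · rw [idealDepth_eq_top_of_smul_top_eq_top hIM]; exact le_top
  · obtain ⟨rs, hlen, hmem, hreg⟩ := ModuleCat.exists_isRegular_of_exists_subsingleton_ext I n
      (ModuleCat.of R M) (Ne.lt_top hIM) (ModuleCat.of R (R ⧸ I))
      (by rw [Module.support_eq_zeroLocus, Ideal.annihilator_quotient]) h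
    rw [← hlen]
    exact le_idealDepth_of_isWeaklyRegular hreg.toIsWeaklyRegular hmem

theorem idealDepth_eq_iff_ext [IsNoetherianRing R] [Module.Finite R M] (n : ℕ) :
    LocCoh.idealDepth I M = n ↔
      (∀ i < n, Subsingleton (Abelian.Ext (ModuleCat.of R (R ⧸ I)) (ModuleCat.of R M) i)) ∧
        Nontrivial (Abelian.Ext (ModuleCat.of R (R ⧸ I)) (ModuleCat.of R M) n) := by
  rw [← le_idealDepth_iff_ext n, ← not_subsingleton_iff_nontrivial]
  constructor
  · intro h
    refine ⟨h.ge, fun hs => ?_⟩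
    have : ((n + 1 : ℕ) : ℕ∞) ≤ LocCoh.idealDepth I M := (le_idealDepth_iff_ext (n + 1)).mpr
      fun i hi => (Nat.lt_succ_iff_lt_or_eq.mp hi).elim
        (fun hi' => (le_idealDepth_iff_ext n).mp h.ge i hi') (fun e => e ▸ hs)
    rw [h] at this
    norm_cast at this
    omega
  · intro ⟨h₁, h₂⟩
    refine le_antisymm (le_of_not_gt fun hlt => h₂ ?_) h₁
    exact (le_idealDepth_iff_ext (n + 1)).mp
      (by push_cast; exact Order.add_one_le_of_lt hlt) n (Nat.lt_succ_self n)

variable [IsNoetherianRing R] [Module.Finite R M]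

theorem le_idealDepth_quotSMulTop_iff {x : R} (hx : x ∈ I) (hreg : IsSMulRegular M x) (n : ℕ) :
    (n : ℕ∞) ≤ LocCoh.idealDepth I (QuotSMulTop x M) ↔
      ((n + 1 : ℕ) : ℕ∞) ≤ LocCoh.idealDepth I M := by
  constructor
  · intro h
    by_cases hIM : I • (⊤ : Submodule R M) = ⊤
    · rw [idealDepth_eq_top_of_smul_top_eq_top hIM]; exact le_top
    · obtain ⟨rs, hrs, hmem, hlen⟩ := exists_isWeaklyRegular_of_le_idealDepth
        (fun e => hIM ((smul_top_quotSMulTop_eq_top_iff hx).mp e)) h
      have h' := le_idealDepth_of_isWeaklyRegular (I := I) (rs := x :: rs)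
        ((isWeaklyRegular_cons_iff M x rs).mpr ⟨hreg, hrs⟩) (by simp [hx]; exact hmem)
      simpa [hlen] using h'
  · intro h
    rw [le_idealDepth_iff_ext] at h ⊢
    intro i hi
    exact subsingleton_ext_X₃ (S := (ModuleCat.of R M).smulShortComplex x)
      hreg.smulShortComplex_shortExact (h i (by omega)) (h (i + 1) (by omega))

theorem idealDepth_quotSMulTop_add_one {x : R} (hx : x ∈ I) (hreg : IsSMulRegular M x) :
    LocCoh.idealDepth I (QuotSMulTop x M) + 1 = LocCoh.idealDepth I M := by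
  have one_le : (1 : ℕ∞) ≤ LocCoh.idealDepth I M := by
    simpa using (le_idealDepth_quotSMulTop_iff hx hreg 0).mp (zero_le)
  apply le_antisymm
  · refine ENat.forall_natCast_le_iff_le.mp fun n hn => ?_
    rcases n with - | n
    · exact zero_le
    · apply (le_idealDepth_quotSMulTop_iff hx hreg n).mp
      push_cast at hn
      exact (WithTop.add_le_add_iff_right ENat.one_ne_top).mp hn
  · refine ENat.forall_natCast_le_iff_le.mp fun n hn => ?_
    rcases n with - | n
    · exact zero_le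
    · push_cast
      exact add_le_add ((le_idealDepth_quotSMulTop_iff hx hreg n).mpr hn) le_rfl

variable {M' M'' : Type u} [AddCommGroup M'] [Module R M'] [Module.Finite R M']
  [AddCommGroup M''] [Module R M''] [Module.Finite R M'']
  {f : M' →ₗ[R] M} {g : M →ₗ[R] M''}
  (hf : Function.Injective f) (hg : Function.Surjective g) (hfg : Function.Exact f g)

include hf hg hfg

omit [IsNoetherianRing R] [Module.Finite R M] [Module.Finite R M'] [Module.Finite R M''] in
theorem exists_shortExact :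
    ∃ S : ShortComplex (ModuleCat.{u} R), S.ShortExact ∧ S.X₁ = ModuleCat.of R M' ∧
      S.X₂ = ModuleCat.of R M ∧ S.X₃ = ModuleCat.of R M'' :=
  ⟨ShortComplex.mk (ModuleCat.ofHom f) (ModuleCat.ofHom g) (by ext x; exact hfg.apply_apply_eq_zero x),
    { exact := (ShortComplex.ShortExact.moduleCat_exact_iff_function_exact _).mpr hfg
      mono_f := (ModuleCat.mono_iff_injective _).mpr hf
      epi_g := (ModuleCat.epi_iff_surjective _).mpr hg }, rfl, rfl, rfl⟩

theorem min_le_idealDepth_X₂ :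
    min (LocCoh.idealDepth I M') (LocCoh.idealDepth I M'') ≤ LocCoh.idealDepth I M := by
  obtain ⟨S, hS, h1, h2, h3⟩ := exists_shortExact hf hg hfg
  refine ENat.forall_natCast_le_iff_le.mp fun n hn => ?_
  rw [le_min_iff, le_idealDepth_iff_ext, le_idealDepth_iff_ext, ← h1, ← h3] at hn
  rw [le_idealDepth_iff_ext, ← h2]
  exact fun i hi => subsingleton_ext_X₂ hS (hn.1 i hi) (hn.2 i hi)

theorem min_le_idealDepth_X₃ :
    min (LocCoh.idealDepth I M) (LocCoh.idealDepth I M' - 1) ≤ LocCoh.idealDepth I M'' := by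
  obtain ⟨S, hS, h1, h2, h3⟩ := exists_shortExact hf hg hfg
  refine ENat.forall_natCast_le_iff_le.mp fun n hn => ?_
  rcases n with - | n
  · exact zero_le
  rw [le_min_iff] at hn
  have hn' : ((n + 1 + 1 : ℕ) : ℕ∞) ≤ LocCoh.idealDepth I M' := by
    rcases eq_or_ne (LocCoh.idealDepth I M') ⊤ with h | h
    · rw [h]; exact le_top
    · obtain ⟨d, hd⟩ := ENat.ne_top_iff_exists.mp h
      have := hn.2
      rw [← hd] at this ⊢
      norm_cast at this ⊢
      omega
  rw [le_idealDepth_iff_ext] at hn'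
  have hn2 := (le_idealDepth_iff_ext _).mp hn.1
  rw [le_idealDepth_iff_ext, ← h3]
  rw [← h1] at hn'; rw [← h2] at hn2
  exact fun i hi => subsingleton_ext_X₃ hS (hn2 i hi) (hn' (i + 1) (by omega))

theorem min_le_idealDepth_X₁ :
    min (LocCoh.idealDepth I M) (LocCoh.idealDepth I M'' + 1) ≤ LocCoh.idealDepth I M' := by
  obtain ⟨S, hS, h1, h2, h3⟩ := exists_shortExact hf hg hfg
  refine ENat.forall_natCast_le_iff_le.mp fun n hn => ?_
  rw [le_min_iff] at hn
  have hn2 := (le_idealDepth_iff_ext _).mp hn.1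
  rw [le_idealDepth_iff_ext, ← h1]
  rw [← h2] at hn2
  intro i hi
  refine subsingleton_ext_X₁ hS (hn2 i hi) fun j hj => ?_
  obtain ⟨m, rfl⟩ : ∃ m, n = m + 1 := ⟨n - 1, by omega⟩
  have hm : (m : ℕ∞) ≤ LocCoh.idealDepth I M'' := by
    have := hn.2; push_cast at this
    exact (WithTop.add_le_add_iff_right ENat.one_ne_top).mp this
  rw [le_idealDepth_iff_ext, ← h3] at hm
  exact hm j (by omega)

end Rees

end Groth.Agent.Depth
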