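import Groth.Agent.Depth.Local

/-!
# Regular sequences spread out, semicontinuity of depth
-/

universe u

open CategoryTheory RingTheory.Sequence
open scoped Pointwise

namespace Groth.Agent.Depth

variable {R : Type u} [CommRing R]

theorem isWeaklyRegular_localizedModule_cons_iff (T : Submonoid R) {M : Type u} [AddCommGroup M]
    [Module R M] (x : R) (rs : List R) :
    IsWeaklyRegular (LocalizedModule T M) ((x :: rs).map (algebraMap R (Localization T))) ↔
      IsSMulRegular (LocalizedModule T M) (algebraMap R (Localization T) x) ∧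
        IsWeaklyRegular (LocalizedModule T (QuotSMulTop x M))
          (rs.map (algebraMap R (Localization T))) := by
  rw [List.map_cons, isWeaklyRegular_cons_iff,
    (quotSMulTopLocalizedEquiv M T x).isWeaklyRegular_congr]

variable [IsNoetherianRing R]

theorem exists_smul_eq_zero_of_isSMulRegular {p : Ideal R} [p.IsPrime] {M : Type u} [AddCommGroup M]
    [Module R M] [Module.Finite R M] {x : R}
    (h : IsSMulRegular (LocalizedModule p.primeCompl M) (algebraMap R (Localization.AtPrime p) x)) :
    ∃ f ∉ p, ∀ m : M, x • m = 0 → f • m = 0 := by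
  let K := LinearMap.ker (LinearMap.lsmul R M x)
  obtain ⟨t, ht⟩ := IsNoetherian.noetherian K
  have key : ∀ m ∈ K, ∃ f ∉ p, f • m = 0 := by
    intro m hm
    have h0 : LocalizedModule.mkLinearMap p.primeCompl M m = 0 := by
      apply h
      show algebraMap R (Localization.AtPrime p) x • _ = algebraMap R (Localization.AtPrime p) x • _
      rw [IsScalarTower.algebraMap_smul, ← map_smul, smul_zero]
      simp [show x • m = 0 from hm]
    obtain ⟨c, hc⟩ := (IsLocalizedModule.eq_zero_iff p.primeCompl _).mp h0
    exact ⟨c, c.2, hc⟩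
  choose! f hfp hf using key
  refine ⟨∏ m ∈ t, f m, fun hmem => ?_, fun m hm => ?_⟩
  · obtain ⟨m, hm, hmp⟩ := (Ideal.IsPrime.prod_mem_iff (p := p)).mp hmem
    exact hfp m (ht ▸ Submodule.subset_span hm) hmp
  · have hmK : m ∈ Submodule.span R (t : Set M) := ht ▸ hm
    induction hmK using Submodule.span_induction with
    | mem y hy =>
      obtain ⟨c, hc⟩ := Finset.dvd_prod_of_mem f hy
      rw [hc, mul_comm, mul_smul, hf y (ht ▸ Submodule.subset_span hy), smul_zero]
    | zero => simp
    | add a b ha hb iha ihb =>
      rw [smul_add, iha (show a ∈ K from ht ▸ ha), ihb (show b ∈ K from ht ▸ hb), add_zero]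
    | smul c a ha iha => rw [smul_comm, iha (show a ∈ K from ht ▸ ha), smul_zero]

omit [IsNoetherianRing R] in
theorem isSMulRegular_localizedModule_of_smul_eq_zero {M : Type u} [AddCommGroup M] [Module R M]
    (T : Submonoid R) {x f : R} (hf : IsUnit (algebraMap R (Localization T) f))
    (h : ∀ m : M, x • m = 0 → f • m = 0) :
    IsSMulRegular (LocalizedModule T M) (algebraMap R (Localization T) x) := by
  refine isSMulRegular_iff_right_eq_zero_of_smul.mpr fun y hy => ?_
  obtain ⟨⟨m, s⟩, rfl⟩ := IsLocalizedModule.mk'_surjective T (LocalizedModule.mkLinearMap T M) y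
  simp only [Function.uncurry_apply_pair] at hy ⊢
  rw [IsScalarTower.algebraMap_smul, ← IsLocalizedModule.mk'_smul, IsLocalizedModule.mk'_eq_zero,
    IsLocalizedModule.eq_zero_iff T] at hy
  obtain ⟨c, hc⟩ := hy
  rw [IsLocalizedModule.mk'_eq_zero]
  have h1 : f • (c : R) • m = 0 := h _ (by rw [smul_comm]; exact hc)
  have h2 : algebraMap R (Localization T) f • LocalizedModule.mkLinearMap T M ((c : R) • m) = 0 := by
    rw [IsScalarTower.algebraMap_smul, ← map_smul, h1, map_zero]
  rw [hf.smul_eq_zero, map_smul] at h2
  exact ((IsLocalization.map_units (Localization T) c).smul_eq_zero).mp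
    (by rw [IsScalarTower.algebraMap_smul]; exact h2)

/-- A sequence regular at `p` is regular on an open neighbourhood of `p`. -/
theorem exists_notMem_forall_isWeaklyRegular (p : Ideal R) [p.IsPrime] :
    ∀ (rs : List R) (M : Type u) [AddCommGroup M] [Module R M] [Module.Finite R M],
      IsWeaklyRegular (LocalizedModule p.primeCompl M)
        (rs.map (algebraMap R (Localization.AtPrime p))) →
      ∃ f ∉ p, ∀ (q : Ideal R) [q.IsPrime], f ∉ q →
        IsWeaklyRegular (LocalizedModule q.primeCompl M)
          (rs.map (algebraMap R (Localization.AtPrime q))) := by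
  intro rs
  induction rs with
  | nil => exact fun M _ _ _ _ => ⟨1, p.ne_top_iff_one.mp ‹p.IsPrime›.ne_top, fun q _ _ => by simp⟩
  | cons x rs ih =>
    intro M _ _ _ h
    rw [isWeaklyRegular_localizedModule_cons_iff] at h
    obtain ⟨f, hfp, hf⟩ := exists_smul_eq_zero_of_isSMulRegular h.1
    obtain ⟨g, hgp, hg⟩ := ih _ h.2
    refine ⟨f * g, fun hmem => (‹p.IsPrime›.mem_or_mem hmem).elim hfp hgp, fun q _ hq => ?_⟩
    rw [isWeaklyRegular_localizedModule_cons_iff]
    exact ⟨isSMulRegular_localizedModule_of_smul_eq_zero q.primeCompl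
        (IsLocalization.map_units (Localization.AtPrime q) (⟨f, fun hf' => hq (q.mul_mem_right g hf')⟩ : q.primeCompl)) hf,
      hg q fun hg' => hq (q.mul_mem_left f hg')⟩

/-- Depth of a localization is witnessed by elements of the original ideal. -/
theorem exists_isWeaklyRegular_localizedModule {I p : Ideal R} [p.IsPrime] :
    ∀ (e : ℕ) (M : Type u) [AddCommGroup M] [Module R M] [Module.Finite R M],
      (e : ℕ∞) ≤ LocCoh.idealDepth (I.map (algebraMap R (Localization.AtPrime p)))
        (LocalizedModule p.primeCompl M) →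
      ∃ rs : List R, rs.length = e ∧ (∀ r ∈ rs, r ∈ I) ∧
        IsWeaklyRegular (LocalizedModule p.primeCompl M)
          (rs.map (algebraMap R (Localization.AtPrime p))) := by
  intro e
  induction e with
  | zero => exact fun M _ _ _ _ => ⟨[], rfl, by simp, by simp⟩
  | succ e ih =>
    intro M _ _ _ h
    obtain ⟨y, hy, hyreg⟩ := exists_isSMulRegular_of_one_le_idealDepth
      (le_trans (by exact_mod_cast Nat.succ_pos e) h)
    obtain ⟨⟨⟨a, ha⟩, s⟩, hys⟩ := (IsLocalization.mem_map_algebraMap_iff p.primeCompl _).mp hy
    have hareg : IsSMulRegular (LocalizedModule p.primeCompl M)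
        (algebraMap R (Localization.AtPrime p) a) := by
      rw [← hys]
      exact hyreg.mul ((IsLocalization.map_units _ s).isSMulRegular _)
    obtain ⟨rs, hlen, hmem, hrs⟩ := ih (QuotSMulTop a M) (by
      rw [← idealDepth_congr (quotSMulTopLocalizedEquiv M p.primeCompl a)]
      exact (le_idealDepth_quotSMulTop_iff (Ideal.mem_map_of_mem _ ha) hareg e).mpr h)
    exact ⟨a :: rs, by simp [hlen], by simpa [ha] using hmem,
      (isWeaklyRegular_localizedModule_cons_iff _ a rs).mpr ⟨hareg, hrs⟩⟩

/-- `depth_I` of the localizations is semicontinuous. -/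
theorem exists_notMem_forall_le_idealDepth {I : Ideal R} {p : Ideal R} [p.IsPrime] {M : Type u}
    [AddCommGroup M] [Module R M] [Module.Finite R M] {e : ℕ}
    (he : (e : ℕ∞) ≤ LocCoh.idealDepth (I.map (algebraMap R (Localization.AtPrime p)))
      (LocalizedModule p.primeCompl M)) :
    ∃ f ∉ p, ∀ (q : Ideal R) [q.IsPrime], f ∉ q →
      (e : ℕ∞) ≤ LocCoh.idealDepth (I.map (algebraMap R (Localization.AtPrime q)))
        (LocalizedModule q.primeCompl M) := by
  obtain ⟨rs, hlen, hmem, hrs⟩ := exists_isWeaklyRegular_localizedModule e M he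
  obtain ⟨f, hf, h⟩ := exists_notMem_forall_isWeaklyRegular p rs M hrs
  refine ⟨f, hf, fun q _ hq => ?_⟩
  simpa [hlen] using le_idealDepth_of_isWeaklyRegular (h q hq) (by
    simp only [List.mem_map, forall_exists_index, and_imp, forall_apply_eq_imp_iff₂]
    exact fun r hr => Ideal.mem_map_of_mem (algebraMap R (Localization.AtPrime q)) (hmem r hr))

/-- Localization commutes with quotients by a sequence: depth version. -/
theorem idealDepth_localizedModule_quotient_add_length {p : Ideal R} [p.IsPrime]
    {J : Ideal (Localization.AtPrime p)} :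
    ∀ (rs : List R) (M : Type u) [AddCommGroup M] [Module R M] [Module.Finite R M],
      IsWeaklyRegular (LocalizedModule p.primeCompl M)
        (rs.map (algebraMap R (Localization.AtPrime p))) →
      (∀ r ∈ rs, algebraMap R (Localization.AtPrime p) r ∈ J) →
      LocCoh.idealDepth J (LocalizedModule p.primeCompl (M ⧸ (Ideal.ofList rs • ⊤ : Submodule R M)))
        + rs.length = LocCoh.idealDepth J (LocalizedModule p.primeCompl M) := by
  intro rs
  induction rs with
  | nil =>
    intro M _ _ _ _ _
    simpa using idealDepth_congr (IsLocalizedModule.mapEquiv p.primeCompl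
      (LocalizedModule.mkLinearMap p.primeCompl _) (LocalizedModule.mkLinearMap p.primeCompl M)
      (Localization.AtPrime p)
      (Submodule.quotEquivOfEqBot (Ideal.ofList ([] : List R) • ⊤ : Submodule R M) (by simp)))
  | cons x rs ih =>
    intro M _ _ _ hreg hmem
    rw [isWeaklyRegular_localizedModule_cons_iff] at hreg
    rw [← idealDepth_quotSMulTop_add_one (hmem x List.mem_cons_self) hreg.1,
      idealDepth_congr (quotSMulTopLocalizedEquiv M p.primeCompl x),
      ← ih (QuotSMulTop x M) hreg.2 (fun r hr => hmem r (List.mem_cons_of_mem x hr)),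
      idealDepth_congr (IsLocalizedModule.mapEquiv p.primeCompl
        (LocalizedModule.mkLinearMap p.primeCompl _) (LocalizedModule.mkLinearMap p.primeCompl _)
        (Localization.AtPrime p) (Submodule.quotOfListConsSMulTopEquivQuotSMulTopInner M x rs))]
    push_cast [List.length_cons]
    rw [add_assoc]

end Groth.Agent.Depth
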